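import Groth.Agent.Lib.BCCoh.PullSec
import Groth.Agent.Lib.BCCoh.SecTensor
import Groth.Agent.Lib.FlatBC.Basic
import Groth.Agent.Lib.ProjFormula.Map
import Groth.Agent.Lib.FlatLimit.Geometric

/-! # Sections of tensor products of quasi-coherent modules on affine opens -/

set_option autoImplicit false
set_option linter.style.haveILetI false
set_option maxHeartbeats 1600000
universe u

open CategoryTheory AlgebraicGeometry Opposite TopologicalSpace TensorProduct
open GrothLib.OX (germ tmulSec)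
open GrothLib.BCCoh (pullRes tmulBC bijective_tmulBC)

noncomputable section

namespace GrothLib.GenFlatBC9

/-- `P ⊗ Q`. -/
abbrev tens {X : Scheme.{u}} (P Q : X.Modules) : X.Modules := ((DCoh.tensorBi (X := X)).obj P).obj Q

theorem tens_eq_tensorMod {X : Scheme.{u}} (P Q : X.Modules) : tens P Q = CohB1.tensorMod P Q := rfl

theorem isQuasicoherent_tens {X : Scheme.{u}} (P Q : X.Modules) [P.IsQuasicoherent] [Q.IsQuasicoherent] :
    (tens P Q).IsQuasicoherent :=
  (Groth.Agent.S2297.result P Q).1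

theorem res_tmulSec {X : Scheme.{u}} (P Q : X.Modules) {U V : X.Opens} (h : V ≤ U) (s : Γ(P, U)) (t : Γ(Q, U)) :
    (tens P Q).presheaf.map (homOfLE h).op (tmulSec P Q U s t) =
      tmulSec P Q V (P.presheaf.map (homOfLE h).op s) (Q.presheaf.map (homOfLE h).op t) :=
  (PresheafOfModules.naturality_apply
    (OX.sheafUnit (MonoidalCategory.tensorObj (DCoh.toP.obj P) (DCoh.toP.obj Q))) (homOfLE h).op
    (OX.tsec _ _ U s t)).symm

/-- `s ⊗ t ↦ s ⊗ t`. -/
def tmulHom {X : Scheme.{u}} (P Q : X.Modules) (U : X.Opens) :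
    Γ(P, U) ⊗[Γ(X, U)] Γ(Q, U) →ₗ[Γ(X, U)] Γ(tens P Q, U) :=
  TensorProduct.lift (LinearMap.mk₂ Γ(X, U) (fun s t => (tmulSec P Q U s t : Γ(tens P Q, U)))
    (fun a b t => OX.tmulSec_add_left P Q U a b t) (fun c a t => OX.tmulSec_smul_left P Q U c a t)
    (fun a s t => OX.tmulSec_add_right P Q U a s t) (fun c a t => OX.tmulSec_smul_right P Q U c a t))

theorem tmulHom_tmul {X : Scheme.{u}} (P Q : X.Modules) (U : X.Opens) (s : Γ(P, U)) (t : Γ(Q, U)) :
    tmulHom P Q U (s ⊗ₜ t) = tmulSec P Q U s t := rfl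

/-- **Sections of a tensor product on an affine open.** -/
theorem bijective_tmulHom {X : Scheme.{u}} (P Q : X.Modules) [P.IsQuasicoherent] [Q.IsQuasicoherent]
    {U : X.Opens} (hU : IsAffineOpen U) : Function.Bijective (tmulHom P Q U) := by
  have := isQuasicoherent_tens P Q
  let T := tens P Q
  let θ := tmulHom P Q U
  have key : ∀ (x : X) (hx : x ∈ U),
      (∀ z, θ z = 0 → ∃ c, c ∉ WeakAss.primeAt x hx ∧ c • z = 0) ∧
      (∀ t, ∃ c, c ∉ WeakAss.primeAt x hx ∧ c • t ∈ LinearMap.range θ) := by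
    intro x hx
    letI := X.presheaf.algebra_section_stalk ⟨x, hx⟩
    haveI := FlatFP.isLocalization_stalk_primeAt hU hx
    let Px := (OX.stalk x).obj P
    let Qx := (OX.stalk x).obj Q
    letI : Module Γ(X, U) Px := Module.compHom _ (algebraMap Γ(X, U) (X.presheaf.stalk x))
    haveI : IsScalarTower Γ(X, U) (X.presheaf.stalk x) Px := IsScalarTower.of_algebraMap_smul fun _ _ => rfl
    letI : Module Γ(X, U) Qx := Module.compHom _ (algebraMap Γ(X, U) (X.presheaf.stalk x))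
    haveI : IsScalarTower Γ(X, U) (X.presheaf.stalk x) Qx := IsScalarTower.of_algebraMap_smul fun _ _ => rfl
    letI : Module Γ(X, U) (P.presheaf.stalk x) := Module.compHom _ (X.presheaf.germ U x hx).hom
    letI : Module Γ(X, U) (Q.presheaf.stalk x) := Module.compHom _ (X.presheaf.germ U x hx).hom
    obtain ⟨g, hg, hgz⟩ := FlatFP.isLocalizedModule_germ P hU hx
    let g' : Γ(P, U) →ₗ[Γ(X, U)] Px :=
      { toFun := fun z => g z, map_add' := map_add g, map_smul' := fun c z => g.map_smul c z }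
    haveI : IsLocalizedModule (WeakAss.primeAt x hx).primeCompl g' := hg
    obtain ⟨k, hk, hkz⟩ := FlatFP.isLocalizedModule_germ Q hU hx
    let k' : Γ(Q, U) →ₗ[Γ(X, U)] Qx :=
      { toFun := fun z => k z, map_add' := map_add k, map_smul' := fun c z => k.map_smul c z }
    haveI : IsLocalizedModule (WeakAss.primeAt x hx).primeCompl k' := hk
    have hbk : IsBaseChange (X.presheaf.stalk x) k' :=
      IsLocalizedModule.isBaseChange (WeakAss.primeAt x hx).primeCompl _ k'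
    let σ := (OX.stalkTensorBiIso x P Q).symm.toLinearEquiv
    let Φ : Px ⊗[Γ(X, U)] Γ(Q, U) → (OX.stalk x).obj T := fun w =>
      σ (tmulBC (C := X.presheaf.stalk x) (N := Px) k' w)
    have hΦ : Function.Bijective Φ := σ.bijective.comp (bijective_tmulBC hbk)
    have hΦ0 : Φ 0 = 0 := by simp only [Φ, map_zero]
    have hΦadd : ∀ w w', Φ (w + w') = Φ w + Φ w' := fun w w' => by simp only [Φ, map_add]
    let R' := AlgebraTensorModule.rTensor Γ(X, U) Γ(Q, U) g'
    have hRΦ : ∀ z : Γ(P, U) ⊗[Γ(X, U)] Γ(Q, U), germ (DCoh.toP.obj T) U hx (θ z) = Φ (R' z) := fun z => by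
      refine TensorProduct.induction_on z ?_ (fun s m => ?_) (fun z w hz hw => ?_)
      · rw [map_zero θ, map_zero R', hΦ0]
        exact map_zero _
      · have h0 : R' (s ⊗ₜ m) = g' s ⊗ₜ m := rfl
        rw [h0]
        show _ = σ (g' s ⊗ₜ[X.presheaf.stalk x] k' m)
        rw [show g' s = germ (DCoh.toP.obj P) U hx s from hgz s,
          show k' m = germ (DCoh.toP.obj Q) U hx m from hkz m]
        exact ((congrArg (OX.stalkTensorBiIso x P Q).inv.hom
          (OX.stalkTensorBiIso_germ x P Q U hx s m)).symm.trans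
          (ConcreteCategory.congr_hom (OX.stalkTensorBiIso x P Q).hom_inv_id _)).symm
      · rw [map_add θ, map_add R', hΦadd, ← hz, ← hw]
        exact map_add _ _ _
    haveI : IsLocalizedModule (WeakAss.primeAt x hx).primeCompl R' := inferInstance
    letI : Module Γ(X, U) (T.presheaf.stalk x) := Module.compHom _ (X.presheaf.germ U x hx).hom
    obtain ⟨gT, hgT, hgTz⟩ := FlatFP.isLocalizedModule_germ T hU hx
    constructor
    · intro z hz
      have h1 : R' z = 0 := hΦ.1 (((hRΦ z).symm.trans ((congrArg _ hz).trans (map_zero _))).trans hΦ0.symm)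
      obtain ⟨⟨c, hc⟩, hcz⟩ := (IsLocalizedModule.eq_zero_iff (WeakAss.primeAt x hx).primeCompl R').1 h1
      exact ⟨c, hc, hcz⟩
    · intro t
      obtain ⟨w, hw⟩ := hΦ.2 (germ (DCoh.toP.obj T) U hx t)
      obtain ⟨⟨z, ⟨c, hc⟩⟩, hzc⟩ := IsLocalizedModule.surj (WeakAss.primeAt x hx).primeCompl R' w
      have hΦc : Φ (c • w) = X.presheaf.germ U x hx c • Φ w := by
        rw [← algebraMap_smul (X.presheaf.stalk x) c w]
        simp only [Φ, map_smul]
        rfl
      have h1 : gT (c • t) = gT (θ z) := by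
        rw [hgTz, hgTz]
        refine ((OX.germ_smul' (DCoh.toP.obj T) U hx c t).trans ?_)
        refine Eq.trans ?_ (hRΦ z).symm
        rw [← hzc]
        exact ((congrArg (X.presheaf.germ U x hx c • ·) hw.symm).trans hΦc.symm)
      obtain ⟨⟨d, hd⟩, hdd⟩ := IsLocalizedModule.exists_of_eq (S := (WeakAss.primeAt x hx).primeCompl) (f := gT) h1
      refine ⟨d * c, fun h => ((WeakAss.primeAt x hx).primeCompl.mul_mem hd hc) h, d • z, ?_⟩
      rw [mul_smul, map_smul]
      exact hdd.symm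
  show Function.Bijective θ
  constructor
  · rw [injective_iff_map_eq_zero]
    intro z hz
    have h1 : (1 : Γ(X, U)) ∈ LinearMap.ker (LinearMap.toSpanSingleton Γ(X, U) _ z) :=
      FlatFP.one_mem_of_forall_point hU _ fun y hy => by
        obtain ⟨c, hc, hcz⟩ := (key y hy).1 z hz
        exact ⟨c, hcz, hc⟩
    simpa using h1
  · intro t
    have h1 : (1 : Γ(X, U)) ∈ (LinearMap.range θ).comap (LinearMap.toSpanSingleton Γ(X, U) _ t) :=
      FlatFP.one_mem_of_forall_point hU _ fun y hy => by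
        obtain ⟨c, hc, hct⟩ := (key y hy).2 t
        exact ⟨c, hct, hc⟩
    simpa using h1

variable {X S X' S' : Scheme.{u}} {f : X ⟶ S} {g : S' ⟶ S} {g' : X' ⟶ X} {f' : X' ⟶ S'}

/-- Sections over the base. -/
abbrev modOver {X S : Scheme.{u}} (f : X ⟶ S) (M : X.Modules) {V : S.Opens} {U : X.Opens} (e : U ≤ f ⁻¹ᵁ V) :
    Module Γ(S, V) Γ(M, U) :=
  Module.compHom _ (f.appLE V U e).hom

theorem appLE_comm' (w : g' ≫ f = f' ≫ g) {V : S.Opens} {V' : S'.Opens} {U : X.Opens} {U' : X'.Opens}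
    (eU : U ≤ f ⁻¹ᵁ V) (eV : V' ≤ g ⁻¹ᵁ V) (h₁ : U' ≤ g' ⁻¹ᵁ U) (h₂ : U' ≤ f' ⁻¹ᵁ V') (a : Γ(S, V)) :
    g'.appLE U U' h₁ (f.appLE V U eU a) = f'.appLE V' U' h₂ (g.appLE V V' eV a) := by
  show ((f.appLE V U eU) ≫ g'.appLE U U' h₁) a = ((g.appLE V V' eV) ≫ f'.appLE V' U' h₂) a
  simp only [Scheme.Hom.appLE_comp_appLE, w]

variable (G : S'.Modules) (F : X.Modules)

/-- The target of the comparison. -/
abbrev tgtMod (f' : X' ⟶ S') (g' : X' ⟶ X) : X'.Modules :=
  tens ((Scheme.Modules.pullback f').obj G) ((Scheme.Modules.pullback g').obj F)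

/-- `m ↦ z ↦ f'^*m ⊗ g'^*z`. -/
def secPair {V' : S'.Opens} {U : X.Opens} {U' : X'.Opens} (h₁ : U' ≤ g' ⁻¹ᵁ U) (h₂ : U' ≤ f' ⁻¹ᵁ V') :
    Γ(G, V') →+ Γ(F, U) →+ Γ(tgtMod G F f' g', U') :=
  AddMonoidHom.mk' (fun m => AddMonoidHom.mk'
      (fun z => tmulSec _ _ U' (pullRes f' G V' U' h₂ m) (pullRes g' F U U' h₁ z))
      fun z z' => (congrArg (tmulSec _ _ U' _) (BCCoh.pullRes_add g' F U U' h₁ z z')).trans
        (OX.tmulSec_add_right _ _ U' _ _ _))
    fun m m' => AddMonoidHom.ext fun z => (congrArg (fun t => tmulSec _ _ U' t (pullRes g' F U U' h₁ z))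
      (BCCoh.pullRes_add f' G V' U' h₂ m m')).trans (OX.tmulSec_add_left _ _ U' _ _ _)

theorem secPair_apply {V' : S'.Opens} {U : X.Opens} {U' : X'.Opens} (h₁ : U' ≤ g' ⁻¹ᵁ U)
    (h₂ : U' ≤ f' ⁻¹ᵁ V') (m : Γ(G, V')) (z : Γ(F, U)) :
    secPair G F h₁ h₂ m z = tmulSec _ _ U' (pullRes f' G V' U' h₂ m) (pullRes g' F U U' h₁ z) := rfl

theorem secPair_bal (w : g' ≫ f = f' ≫ g) {V : S.Opens} {V' : S'.Opens} {U : X.Opens} {U' : X'.Opens}
    (eU : U ≤ f ⁻¹ᵁ V) (eV : V' ≤ g ⁻¹ᵁ V) (h₁ : U' ≤ g' ⁻¹ᵁ U) (h₂ : U' ≤ f' ⁻¹ᵁ V') (a : Γ(S, V))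
    (m : Γ(G, V')) (z : Γ(F, U)) :
    secPair G F h₁ h₂ (g.appLE V V' eV a • m) z = secPair G F h₁ h₂ m (f.appLE V U eU a • z) := by
  simp only [secPair_apply, BCCoh.pullRes_smul]
  rw [appLE_comm' w eU eV h₁ h₂ a]
  exact (OX.tmulSec_smul_left _ _ U' _ _ _).trans (OX.tmulSec_smul_right _ _ U' _ _ _).symm

/-- The comparison on sections. -/
def secCmp (w : g' ≫ f = f' ≫ g) {V : S.Opens} {V' : S'.Opens} {U : X.Opens} {U' : X'.Opens}
    (eU : U ≤ f ⁻¹ᵁ V) (eV : V' ≤ g ⁻¹ᵁ V) (h₁ : U' ≤ g' ⁻¹ᵁ U) (h₂ : U' ≤ f' ⁻¹ᵁ V') :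
    letI := modOver g G eV
    letI := modOver f F eU
    Γ(G, V') ⊗[Γ(S, V)] Γ(F, U) →+ Γ(tgtMod G F f' g', U') :=
  letI := modOver g G eV
  letI := modOver f F eU
  TensorProduct.liftAddHom (secPair G F h₁ h₂) fun a m z => secPair_bal G F w eU eV h₁ h₂ a m z

/-- **The comparison on sections over an affine open.** -/
theorem bijective_secCmp (sq : IsPullback g' f' f g) [F.IsQuasicoherent] [G.IsQuasicoherent]
    {V : S.Opens} (hV : IsAffineOpen V) {V' : S'.Opens} (hV' : IsAffineOpen V')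
    {U : X.Opens} (hU : IsAffineOpen U) (eU : U ≤ f ⁻¹ᵁ V) (eV : V' ≤ g ⁻¹ᵁ V) :
    Function.Bijective (secCmp G F sq.w eU eV (inf_le_left : FlatBC.upU g' f' V' U ≤ g' ⁻¹ᵁ U)
      inf_le_right) := by
  let U' := FlatBC.upU g' f' V' U
  have hU' : IsAffineOpen U' := FlatLimit.isAffineOpen_square sq eV eU hV hV' hU
  let G'' := (Scheme.Modules.pullback f').obj G
  let F' := (Scheme.Modules.pullback g').obj F
  haveI : G''.IsQuasicoherent := FittSheaf.isQuasicoherent_pullback f' G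
  haveI : F'.IsQuasicoherent := FittSheaf.isQuasicoherent_pullback g' F
  letI : Algebra Γ(S, V) Γ(S', V') := (g.appLE V V' eV).hom.toAlgebra
  letI : Algebra Γ(S', V') Γ(X', U') := (f'.appLE V' U' inf_le_right).hom.toAlgebra
  letI := modOver g G eV
  letI := modOver f F eU
  haveI : IsScalarTower Γ(S, V) Γ(S', V') Γ(G, V') := IsScalarTower.of_algebraMap_smul fun _ _ => rfl
  letI : Module Γ(S', V') Γ(G'', U') := modOver f' G'' inf_le_right
  haveI : IsScalarTower Γ(S', V') Γ(X', U') Γ(G'', U') := IsScalarTower.of_algebraMap_smul fun _ _ => rfl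
  letI : Module Γ(S', V') Γ(F', U') := modOver f' F' inf_le_right
  haveI : IsScalarTower Γ(S', V') Γ(X', U') Γ(F', U') := IsScalarTower.of_algebraMap_smul fun _ _ => rfl
  letI : Module Γ(S, V) Γ(F', U') := Module.compHom _ (g.appLE V V' eV).hom
  haveI : IsScalarTower Γ(S, V) Γ(S', V') Γ(F', U') := IsScalarTower.of_algebraMap_smul fun _ _ => rfl
  let q : Γ(F, U) →ₗ[Γ(S, V)] Γ(F', U') := FlatBC.pullHom sq F eV eU
  have hq : IsBaseChange Γ(S', V') q := by
    have h := FlatBC.bij_affine sq F eV hV hV' hU eU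
    have hb : Function.Bijective (q.liftBaseChange Γ(S', V')) := h
    exact IsBaseChange.of_equiv (LinearEquiv.ofBijective _ hb) fun s => by simp
  obtain ⟨p, hp, hpz⟩ := BCCoh.isBaseChange_pullRes f' G hV' hU' (inf_le_right : U' ≤ f' ⁻¹ᵁ V')
  let Φ : Γ(G, V') ⊗[Γ(S, V)] Γ(F, U) → Γ(tgtMod G F f' g', U') := fun z =>
    tmulHom G'' F' U' (TensorProduct.comm Γ(X', U') Γ(F', U') Γ(G'', U')
      (tmulBC (C := Γ(X', U')) (N := Γ(F', U')) p
        (TensorProduct.comm Γ(S', V') Γ(G, V') Γ(F', U')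
          (tmulBC (C := Γ(S', V')) (N := Γ(G, V')) q z))))
  have hΦ : Function.Bijective Φ :=
    (bijective_tmulHom G'' F' hU').comp ((TensorProduct.comm _ _ _).bijective.comp
      ((bijective_tmulBC hp).comp ((TensorProduct.comm _ _ _).bijective.comp (bijective_tmulBC hq))))
  suffices H : ∀ z, secCmp G F sq.w eU eV (inf_le_left : U' ≤ g' ⁻¹ᵁ U) inf_le_right z = Φ z by
    rw [show ⇑(secCmp G F sq.w eU eV (inf_le_left : U' ≤ g' ⁻¹ᵁ U) inf_le_right) = Φ from funext H]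
    exact hΦ
  intro z
  let Φ' : Γ(G, V') ⊗[Γ(S, V)] Γ(F, U) →+ Γ(tgtMod G F f' g', U') :=
    (tmulHom G'' F' U').toAddMonoidHom.comp ((TensorProduct.comm Γ(X', U') Γ(F', U') Γ(G'', U')).toLinearMap.toAddMonoidHom.comp
      ((tmulBC (C := Γ(X', U')) (N := Γ(F', U')) p).toAddMonoidHom.comp
        ((TensorProduct.comm Γ(S', V') Γ(G, V') Γ(F', U')).toLinearMap.toAddMonoidHom.comp
          (tmulBC (C := Γ(S', V')) (N := Γ(G, V')) q).toAddMonoidHom)))
  show _ = Φ' z
  induction z using TensorProduct.induction_on with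
  | zero => rw [map_zero, map_zero]; rfl
  | add a b ha hb => rw [map_add, map_add, ha, hb]; rfl
  | tmul m s =>
    show secPair G F (inf_le_left : U' ≤ g' ⁻¹ᵁ U) inf_le_right m s =
      tmulSec G'' F' U' (p m) (q s)
    rw [secPair_apply, hpz]
    rfl

/-- **Sections of `G ⊗ g^* H` on an affine open over an affine open.** -/
theorem bijective_baseCmp [G.IsQuasicoherent] (H : S.Modules) [H.IsQuasicoherent] {V : S.Opens}
    (hV : IsAffineOpen V) {V' : S'.Opens} (hV' : IsAffineOpen V') (eV : V' ≤ g ⁻¹ᵁ V) :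
    letI := modOver g G eV
    ∃ β : Γ(G, V') ⊗[Γ(S, V)] Γ(H, V) →+ Γ(tens G ((Scheme.Modules.pullback g).obj H), V'),
      Function.Bijective β ∧ ∀ m h, β (m ⊗ₜ h) = tmulSec G _ V' m (pullRes g H V V' eV h) := by
  let H' := (Scheme.Modules.pullback g).obj H
  haveI : H'.IsQuasicoherent := FittSheaf.isQuasicoherent_pullback g H
  obtain ⟨p, hp, hpz⟩ := BCCoh.isBaseChange_pullRes g H hV hV' eV
  letI : Algebra Γ(S, V) Γ(S', V') := (g.appLE V V' eV).hom.toAlgebra
  letI := modOver g G eV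
  letI : Module Γ(S, V) Γ(H', V') := modOver g H' eV
  haveI : IsScalarTower Γ(S, V) Γ(S', V') Γ(G, V') := IsScalarTower.of_algebraMap_smul fun _ _ => rfl
  haveI : IsScalarTower Γ(S, V) Γ(S', V') Γ(H', V') := IsScalarTower.of_algebraMap_smul fun _ _ => rfl
  refine ⟨(tmulHom G H' V').toAddMonoidHom.comp (tmulBC (C := Γ(S', V')) (N := Γ(G, V')) p).toAddMonoidHom,
    (bijective_tmulHom G H' hV').comp (bijective_tmulBC hp), fun m h => ?_⟩
  show tmulSec G H' V' m (p h) = _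
  rw [hpz]

end GrothLib.GenFlatBC9
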