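import Groth.Agent.Lib.GenFlatBC9.Comparison
import Groth.Agent.Lib.Cohom.RpushModules

/-! # The comparison map on homology sheaves -/

set_option autoImplicit false
set_option backward.isDefEq.respectTransparency false
set_option linter.style.haveILetI false
set_option maxHeartbeats 1600000
universe u

open CategoryTheory CategoryTheory.Limits AlgebraicGeometry Opposite TopologicalSpace
open GrothLib.OX (tmulSec)
open GrothLib.BCCoh (pullRes)
open GrothLib.Cohom (pushCx)

noncomputable section

namespace GrothLib.GenFlatBC9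

theorem pullRes_app {X X' : Scheme.{u}} (q : X' ⟶ X) {M M' : X.Modules} (a : M ⟶ M') (V : X.Opens)
    (V' : X'.Opens) (e : V' ≤ q ⁻¹ᵁ V) (s : Γ(M, V)) :
    ((Scheme.Modules.pullback q).map a).app V' (pullRes q M V V' e s) = pullRes q M' V V' e (a.app V s) :=
  (QCoh.map_app ((Scheme.Modules.pullback q).map a) (homOfLE e) _).symm.trans
    (congrArg (((Scheme.Modules.pullback q).obj M').presheaf.map (homOfLE e).op) (OX.pullSec_natural q a V s).symm)

variable {X S X' S' : Scheme.{u}} {f : X ⟶ S} {g : S' ⟶ S} {g' : X' ⟶ X} {f' : X' ⟶ S'}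
  (sq : IsPullback g' f' f g) (G : S'.Modules) {K : CochainComplex X.Modules ℕ}
  {L : CochainComplex X'.Modules ℕ} (u : ∀ n, (TL g' ((Scheme.Modules.pullback f').obj G)).obj (K.X n) ⟶ L.X n)
  (hu : ∀ m n, u m ≫ L.d m n = (TL g' ((Scheme.Modules.pullback f').obj G)).map (K.d m n) ≫ u n) (p : ℕ)

/-- The comparison in one degree. -/
def thetaCx (n : ℕ) : (TL g G).obj ((pushCx f K).X n) ⟶ (pushCx f' L).X n :=
  theta sq G (K.X n) ≫ (Scheme.Modules.pushforward f').map (u n)

include hu in
theorem thetaCx_d (m n : ℕ) :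
    thetaCx sq G u m ≫ (pushCx f' L).d m n = (TL g G).map ((pushCx f K).d m n) ≫ thetaCx sq G u n := by
  show (theta sq G (K.X m) ≫ (Scheme.Modules.pushforward f').map (u m)) ≫
      (Scheme.Modules.pushforward f').map (L.d m n) =
    (TL g G).map ((Scheme.Modules.pushforward f).map (K.d m n)) ≫
      theta sq G (K.X n) ≫ (Scheme.Modules.pushforward f').map (u n)
  rw [← Category.assoc ((TL g G).map _), theta_natural, Category.assoc, Category.assoc, ← Functor.map_comp,
    ← Functor.map_comp]
  exact congrArg (fun k => theta sq G _ ≫ (Scheme.Modules.pushforward f').map k) (hu m n)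

/-- The comparison on cycles. -/
def kappa : (TL g G).obj ((pushCx f K).cycles p) ⟶ (pushCx f' L).cycles p :=
  (pushCx f' L).liftCycles ((TL g G).map ((pushCx f K).iCycles p) ≫ thetaCx sq G u p) (p + 1) (by simp) (by
    haveI : (TL g G).Additive := additive_TL g G
    rw [Category.assoc, thetaCx_d sq G u hu, ← Category.assoc, ← Functor.map_comp, HomologicalComplex.iCycles_d,
      Functor.map_zero, zero_comp])

/-- The comparison on homology. -/
def bigTheta : (TL g G).obj ((pushCx f K).homology p) ⟶ (pushCx f' L).homology p :=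
  haveI : (TL g G).Additive := additive_TL g G
  haveI : PreservesFiniteColimits (TL g G) := preservesFiniteColimits_TL g G
  (CokernelCofork.mapIsColimit _ ((pushCx f K).homologyIsCokernel (p - 1) p (Cocyc.prev_eq p)) (TL g G)).desc
    (CokernelCofork.ofπ (kappa sq G u hu p ≫ (pushCx f' L).homologyπ p) (by
      have e : (TL g G).map ((pushCx f K).toCycles (p - 1) p) ≫ kappa sq G u hu p =
          thetaCx sq G u (p - 1) ≫ (pushCx f' L).toCycles (p - 1) p := by
        rw [← cancel_mono ((pushCx f' L).iCycles p), Category.assoc, Category.assoc, kappa,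
          HomologicalComplex.liftCycles_i, HomologicalComplex.toCycles_i,
          ← Category.assoc, ← Functor.map_comp, HomologicalComplex.toCycles_i, thetaCx_d sq G u hu]
      rw [← Category.assoc, e, Category.assoc, HomologicalComplex.toCycles_comp_homologyπ, comp_zero]))

theorem π_bigTheta : (TL g G).map ((pushCx f K).homologyπ p) ≫ bigTheta sq G u hu p =
    kappa sq G u hu p ≫ (pushCx f' L).homologyπ p :=
  haveI : (TL g G).Additive := additive_TL g G
  haveI : PreservesFiniteColimits (TL g G) := preservesFiniteColimits_TL g G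
  Cofork.IsColimit.π_desc' (CokernelCofork.mapIsColimit _
    ((pushCx f K).homologyIsCokernel (p - 1) p (Cocyc.prev_eq p)) (TL g G)) _ _

/-- The comparison on classes of cocycles. -/
theorem bigTheta_hcls {V : S.Opens} {V' : S'.Opens} (eV : V' ≤ g ⁻¹ᵁ V) (m : Γ(G, V'))
    (z : Γ((pushCx f K).X p, V)) (hz : Cocyc.Coc (pushCx f K) p z) :
    ∃ hw, (bigTheta sq G u hu p).app V'
        (tmulSec G _ V' m (pullRes g ((pushCx f K).homology p) V V' eV (Cocyc.hcls (pushCx f K) p z hz))) =
      Cocyc.hcls (pushCx f' L) p (V := V')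
        ((u p).app _ (secPair G (K.X p) (AffBC.preimage_le sq eV) (le_refl (f' ⁻¹ᵁ V')) m z)) hw := by
  have hi : ((pushCx f' L).iCycles p).app V' ((kappa sq G u hu p).app V' (tmulSec G _ V' m
      (pullRes g ((pushCx f K).cycles p) V V' eV (Cocyc.cyc (pushCx f K) p z hz)))) =
      ((u p).app _ (secPair G (K.X p) (AffBC.preimage_le sq eV) (le_refl (f' ⁻¹ᵁ V')) m z)) := by
    rw [← ConcreteCategory.comp_apply, ← Scheme.Modules.Hom.comp_app, kappa, HomologicalComplex.liftCycles_i]
    show (thetaCx sq G u p).app V' (((TL g G).map ((pushCx f K).iCycles p)).app V' _) = _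
    refine (congrArg ((thetaCx sq G u p).app V') (ProjFormula.map_right_tmulSec G
      ((Scheme.Modules.pullback g).map ((pushCx f K).iCycles p)) V' m _)).trans ?_
    refine (congrArg (fun t => (thetaCx sq G u p).app V' (tmulSec G _ V' m t))
      ((pullRes_app g ((pushCx f K).iCycles p) V V' eV _).trans
        (congrArg (pullRes g _ V V' eV) (Cocyc.iCycles_cyc (pushCx f K) p z hz)))).trans ?_
    exact congrArg ((u p).app _) (theta_tmulSec sq G (K.X p) eV m z)
  have hw : Cocyc.Coc (pushCx f' L) p (W := V')
      ((u p).app _ (secPair G (K.X p) (AffBC.preimage_le sq eV) (le_refl (f' ⁻¹ᵁ V')) m z)) := by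
    rw [Cocyc.Coc, ← hi, ← ConcreteCategory.comp_apply, ← Scheme.Modules.Hom.comp_app, HomologicalComplex.iCycles_d]
    rfl
  refine ⟨hw, ?_⟩
  rw [Cocyc.hcls, ← pullRes_app]
  refine (congrArg ((bigTheta sq G u hu p).app V') (ProjFormula.map_right_tmulSec G
    ((Scheme.Modules.pullback g).map ((pushCx f K).homologyπ p)) V' m _).symm).trans ?_
  refine (ConcreteCategory.congr_hom (congrArg (fun k => Scheme.Modules.Hom.app k V') (π_bigTheta sq G u hu p)) _).trans ?_
  show ((pushCx f' L).homologyπ p).app V' _ = _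
  exact congrArg (((pushCx f' L).homologyπ p).app V') (Cocyc.cyc_eq (pushCx f' L) p _ hw hi).symm

end GrothLib.GenFlatBC9
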