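import Groth.Agent.Lib.GenFlatBC9.Local
import Groth.Agent.Lib.GenFlatBC9.CxMap
import Groth.Agent.Lib.BCCoh.Flat

/-! # Base change of higher direct images with a flat coefficient module -/

set_option autoImplicit false
set_option backward.isDefEq.respectTransparency false
set_option linter.style.haveILetI false
set_option maxHeartbeats 2000000
universe u

open CategoryTheory CategoryTheory.Limits AlgebraicGeometry Opposite TopologicalSpace TensorProduct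
open GrothLib.OX (tmulSec)
open GrothLib.BCCoh (pullRes)
open GrothLib.Cohom (pushCx)

noncomputable section

namespace GrothLib.GenFlatBC9

variable {X S X' S' : Scheme.{u}} {f : X ⟶ S} {g : S' ⟶ S} {g' : X' ⟶ X} {f' : X' ⟶ S'}

theorem smul_rs_top {W : X.Opens} (N : X.Modules) (h : W ≤ W.ι ''ᵁ ⊤) (r : Γ((W : Scheme.{u}), ⊤))
    (z : Γ(N.restrict W.ι, (⊤ : (W : Scheme.{u}).Opens))) :
    Cocyc.rs h (show Γ(N, W.ι ''ᵁ ⊤) from r • z) =
      X.presheaf.map (homOfLE h).op (show Γ(X, W.ι ''ᵁ ⊤) from r) • Cocyc.rs h (show Γ(N, W.ι ''ᵁ ⊤) from z) := by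
  show N.presheaf.map (homOfLE h).op ((W.ι.appIso ⊤).inv r • (show Γ(N, W.ι ''ᵁ ⊤) from z)) = _
  rw [Scheme.Opens.ι_appIso]
  exact Scheme.Modules.map_smul N (homOfLE h) _ _

/-- Restriction between equal opens, as an isomorphism. -/
def rsEquiv (N : X.Modules) {U U' : X.Opens} (h : U' ≤ U) (h' : U ≤ U') : Γ(N, U) ≃+ Γ(N, U') :=
  { toFun := Cocyc.rs h
    invFun := Cocyc.rs h'
    left_inv := fun z => (Cocyc.rs_rs h h' z).trans (Cocyc.rs_self _ z)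
    right_inv := fun z => (Cocyc.rs_rs h' h z).trans (Cocyc.rs_self _ z)
    map_add' := map_add _ }

theorem classEquiv_smul {F : X.Modules} (I : Cohom.FlRes F) {V : S.Opens} (hV : IsAffineOpen V) (p : ℕ)
    (e₁ : Abelian.Ext.{u} (Cohom.freeFun.obj (⊤ : ((f ⁻¹ᵁ V : X.Opens) : Scheme.{u}).Opens))
      (Coh.toAb (srcMod (f := f) (V := V) F)) p ≃+ Γ((pushCx f I.cocomplex).homology p, V))
    (he₁ : ∀ (z : Cohom.cocycles (I.restrict (f ⁻¹ᵁ V).ι) p ⊤)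
      (h : Cocyc.Coc (pushCx f I.cocomplex) p (W := V)
        (rsEquiv (I.cocomplex.X p) (f ⁻¹ᵁ V).ι_image_top.ge (f ⁻¹ᵁ V).ι_image_top.le z.1)),
      e₁ (Cohom.cocClass (I.restrict (f ⁻¹ᵁ V).ι) p ⊤ z) = Cocyc.hcls (pushCx f I.cocomplex) p (V := V)
        (rsEquiv (I.cocomplex.X p) (f ⁻¹ᵁ V).ι_image_top.ge (f ⁻¹ᵁ V).ι_image_top.le z.1) h)
    (a : Γ(S, V)) (x : Abelian.Ext.{u} (Cohom.freeFun.obj (⊤ : ((f ⁻¹ᵁ V : X.Opens) : Scheme.{u}).Opens))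
      (Coh.toAb (srcMod (f := f) (V := V) F)) p) :
    e₁ (x.comp (Abelian.Ext.mk₀ (actW f V F a)) (add_zero p)) = a • e₁ x := by
  let I₁ := I.restrict (f ⁻¹ᵁ V).ι
  let C := pushCx f I.cocomplex
  have hW : f ⁻¹ᵁ V ≤ (f ⁻¹ᵁ V).ι ''ᵁ ⊤ := (f ⁻¹ᵁ V).ι_image_top.ge
  obtain ⟨z, rfl⟩ := Cohom.cocClass_surjective I₁ p _ x
  let r : Γ(((f ⁻¹ᵁ V : X.Opens) : Scheme.{u}), ⊤) := baseTop f V a
  have hr : ((f ⁻¹ᵁ V : X.Opens) : Scheme.{u}).presheaf.map
      (homOfLE (le_top : (⊤ : ((f ⁻¹ᵁ V : X.Opens) : Scheme.{u}).Opens) ≤ ⊤)).op r = r := by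
    rw [show (homOfLE (le_top : (⊤ : ((f ⁻¹ᵁ V : X.Opens) : Scheme.{u}).Opens) ≤ ⊤)).op = 𝟙 _ from rfl,
      CategoryTheory.Functor.map_id]
    rfl
  have hz : ((f ⁻¹ᵁ V : X.Opens) : Scheme.{u}).presheaf.map (homOfLE le_top).op r • z.1 ∈
      Cohom.cocycles I₁ p ⊤ := Cocyc.coc_smul _ p _ z.2
  show e₁ ((Cohom.cocClass I₁ p ⊤ z).comp (Abelian.Ext.mk₀ (Coh.smulAb _ r)) (add_zero p)) = a • e₁ _
  rw [← Cohom.cocClass_smul I₁ p ⊤ r z hz]
  have hc : Cocyc.Coc C p (W := V) (Cocyc.rs hW (show Γ(I.cocomplex.X p, (f ⁻¹ᵁ V).ι ''ᵁ ⊤) from z.1)) :=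
    Cocyc.Coc.rs (K := I.cocomplex) (z := (show Γ(I.cocomplex.X p, (f ⁻¹ᵁ V).ι ''ᵁ ⊤) from z.1)) z.2 hW
  rw [he₁ z hc]
  refine (he₁ ⟨_, hz⟩ (Cocyc.Coc.rs (K := I.cocomplex)
    (z := (show Γ(I.cocomplex.X p, (f ⁻¹ᵁ V).ι ''ᵁ ⊤) from _)) hz hW)).trans ?_
  refine Eq.trans ?_ (Cocyc.hcls_smul C p (V := V) a _ hc)
  congr 1
  simp only [hr]
  refine (smul_rs_top (I.cocomplex.X p) hW r z.1).trans ?_
  refine Eq.trans ?_ (QCoh.pushforward_smul f (I.cocomplex.X p) a _).symm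
  refine congrArg (· • _) ?_
  show X.presheaf.map _ (f.appLE V _ _ a) = f.app V a
  exact (congr($(Scheme.Hom.appLE_map f _ _) a)).trans (by rw [Scheme.Hom.app_eq_appLE])

theorem bigTheta_top (sq : IsPullback g' f' f g) (G : S'.Modules) {K : CochainComplex X.Modules ℕ}
    {L : CochainComplex X'.Modules ℕ} (u : ∀ n, (TL g' ((Scheme.Modules.pullback f').obj G)).obj (K.X n) ⟶ L.X n)
    (hu : ∀ m n, u m ≫ L.d m n = (TL g' ((Scheme.Modules.pullback f').obj G)).map (K.d m n) ≫ u n) (p : ℕ)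
    {V : S.Opens} {V' : S'.Opens} (eV : V' ≤ g ⁻¹ᵁ V) (m : Γ(G, V'))
    (z : Γ(K.X p, (f ⁻¹ᵁ V).ι ''ᵁ ⊤)) (hz : Cocyc.Coc K p z)
    {hW : f ⁻¹ᵁ V ≤ (f ⁻¹ᵁ V).ι ''ᵁ ⊤}
    {hW' : f' ⁻¹ᵁ V' ≤ (f' ⁻¹ᵁ V').ι ''ᵁ (qMap sq eV ⁻¹ᵁ ⊤)} :
    ∃ (hz₀ : Cocyc.Coc (pushCx f K) p (W := V) (Cocyc.rs hW z))
      (hw : Cocyc.Coc (pushCx f' L) p (W := V')
        (Cocyc.rs hW' ((u p).app _ (secPair G (K.X p) (qImage_le sq eV ⊤) (qImage_le' sq eV ⊤) m z)))),
      (bigTheta sq G u hu p).app V'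
          (tmulSec G _ V' m (pullRes g ((pushCx f K).homology p) V V' eV
            (Cocyc.hcls (pushCx f K) p (V := V) (Cocyc.rs hW z) hz₀))) =
        Cocyc.hcls (pushCx f' L) p (V := V')
          (Cocyc.rs hW' ((u p).app _ (secPair G (K.X p) (qImage_le sq eV ⊤) (qImage_le' sq eV ⊤) m z))) hw := by
  have hz₀ : Cocyc.Coc (pushCx f K) p (W := V) (Cocyc.rs hW z) := Cocyc.Coc.rs (K := K) hz hW
  have hz' : Cocyc.rs hW' ((u p).app _ (secPair G (K.X p) (qImage_le sq eV ⊤) (qImage_le' sq eV ⊤) m z)) =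
      (u p).app _ (secPair G (K.X p) (AffBC.preimage_le sq eV) (le_refl (f' ⁻¹ᵁ V')) m (Cocyc.rs hW z)) := by
    rw [← Cocyc.app_rs]
    exact congrArg ((u p).app _) (secPair_res G _ hW hW' _ _ _ _ m _)
  obtain ⟨hw, hval⟩ := bigTheta_hcls sq G u hu p eV m (Cocyc.rs hW z) hz₀
  refine ⟨hz₀, hz'.symm ▸ hw, hval.trans ?_⟩
  simp only [hz']

variable [HasInjectiveResolutions X.Modules] [HasInjectiveResolutions X'.Modules]

theorem nonempty_iso (sq : IsPullback g' f' f g) [QuasiCompact f] [QuasiSeparated f]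
    (F : X.Modules) [F.IsQuasicoherent] (G : S'.Modules) [G.IsQuasicoherent]
    (hG : FlatMod.IsFlatOver g G) (p : ℕ) :
    Nonempty (tens G ((Scheme.Modules.pullback g).obj ((Coh.Rpush f p).obj F)) ≅
      (Coh.Rpush f' p).obj (tgtMod G F f' g')) := by
  haveI : QuasiCompact f' := MorphismProperty.of_isPullback (P := @QuasiCompact) sq ‹_›
  haveI : QuasiSeparated f' := MorphismProperty.of_isPullback (P := @QuasiSeparated) sq ‹_›
  haveI : ((Scheme.Modules.pullback f').obj G).IsQuasicoherent := FittSheaf.isQuasicoherent_pullback f' G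
  haveI : ((Scheme.Modules.pullback g').obj F).IsQuasicoherent := FittSheaf.isQuasicoherent_pullback g' F
  haveI : (tgtMod G F f' g').IsQuasicoherent := isQuasicoherent_tens _ _
  let T := TL g' ((Scheme.Modules.pullback f').obj G)
  let P := TL g G
  haveI : T.Additive := additive_TL g' _
  haveI : P.Additive := additive_TL g G
  haveI : PreservesFiniteColimits P := preservesFiniteColimits_TL g G
  haveI : (Scheme.Modules.pushforward f').Additive :=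
    (Scheme.Modules.pullbackPushforwardAdjunction f').right_adjoint_additive
  let I : Cohom.FlRes F := .ofInjective (injectiveResolution F)
  let R : Cohom.FlRes (tgtMod G F f' g') := .ofInjective (injectiveResolution (tgtMod G F f' g'))
  obtain ⟨u, hu⟩ := exists_complexMap G sq hG I
  let C := pushCx f I.cocomplex
  let D := pushCx f' R.cocomplex
  let Θ : P.obj (C.homology p) ⟶ D.homology p :=
    bigTheta sq G u.f (fun m n => u.comm m n) p
  haveI hCq : (C.homology p).IsQuasicoherent :=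
    Cocyc.isQuasicoherent_homology (Cohom.localises_pushCx f I p)
  haveI hDq : (D.homology p).IsQuasicoherent :=
    Cocyc.isQuasicoherent_homology (Cohom.localises_pushCx f' R p)
  haveI : ((Scheme.Modules.pullback g).obj (C.homology p)).IsQuasicoherent :=
    FittSheaf.isQuasicoherent_pullback g _
  haveI : (P.obj (C.homology p)).IsQuasicoherent := isQuasicoherent_tens _ _
  suffices IsIso Θ from
    ⟨P.mapIso (Cohom.rpushIso f F p) ≪≫ asIso Θ ≪≫ (Cohom.rpushIso f' (tgtMod G F f' g') p).symm⟩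
  let 𝒰 := {V' : S'.Opens // IsAffineOpen V' ∧ ∃ V : S.Opens, IsAffineOpen V ∧ V' ≤ g ⁻¹ᵁ V}
  refine QCoh.isIso_of_bijective_on_cover Θ (fun i : 𝒰 => i.1) ?_ (fun i => i.2.1) ?_
  · refine top_le_iff.1 fun s _ => ?_
    obtain ⟨V, hV, hsV, -⟩ := exists_isAffineOpen_mem_and_subset (show g s ∈ (⊤ : S.Opens) from trivial)
    obtain ⟨V', hV', hsV', e⟩ := exists_isAffineOpen_mem_and_subset (show s ∈ g ⁻¹ᵁ V from hsV)
    exact Opens.mem_iSup.2 ⟨⟨V', hV', V, hV, e⟩, hsV'⟩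
  rintro ⟨V', hV', V, hV, eV⟩
  letI := modOver g G eV
  haveI : Module.Flat Γ(S, V) Γ(G, V') := BCCoh.flat_sections g G hG hV' hV eV
  haveI := isAffineHom_qMap sq eV hV hV'
  haveI : (tgtMod G F f' g' |>.restrict (f' ⁻¹ᵁ V').ι).IsQuasicoherent := inferInstance
  let I₁ : Cohom.FlRes (srcMod (f := f) (V := V) F) := I.restrict (f ⁻¹ᵁ V).ι
  let J₁ : Cohom.FlRes (pushTgt sq eV (tgtMod G F f' g')) :=
    pushRes (qMap sq eV) (R.restrict (f' ⁻¹ᵁ V').ι)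
  -- the comparison on classes
  haveI : CompactSpace ((f ⁻¹ᵁ V : X.Opens) : Scheme.{u}) :=
    isCompact_iff_compactSpace.1 (f.isCompact_preimage hV.isCompact)
  haveI : QuasiSeparatedSpace ((f ⁻¹ᵁ V : X.Opens) : Scheme.{u}) :=
    isQuasiSeparated_iff_quasiSeparatedSpace _ (f ⁻¹ᵁ V).2 |>.1 (f.isQuasiSeparated_preimage hV.isQuasiSeparated)
  let d := datW sq G eV F
  have hgood : FlatTensorCoh.Good d (Cohom.freeFun.obj ⊤) :=
    FlatTensorCoh.good_of_isCompact d (fun hU => good_affine_datW sq G eV F hV hV' hU) (by simpa using isCompact_univ)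
  have hW : f ⁻¹ᵁ V ≤ (f ⁻¹ᵁ V).ι ''ᵁ ⊤ := (f ⁻¹ᵁ V).ι_image_top.ge
  have hW₁ : (f ⁻¹ᵁ V).ι ''ᵁ ⊤ ≤ f ⁻¹ᵁ V := (f ⁻¹ᵁ V).ι_image_top.le
  have hW' : f' ⁻¹ᵁ V' ≤ (f' ⁻¹ᵁ V').ι ''ᵁ (qMap sq eV ⁻¹ᵁ ⊤) := by
    rw [Scheme.Hom.preimage_top]; exact (f' ⁻¹ᵁ V').ι_image_top.ge
  have hW₁' : (f' ⁻¹ᵁ V').ι ''ᵁ (qMap sq eV ⁻¹ᵁ ⊤) ≤ f' ⁻¹ᵁ V' := qImage_le' sq eV ⊤
  obtain ⟨e₁, he₁⟩ := exists_classEquiv I₁ C hV p (Cohom.localises_pushCx f I p)
    (fun n => rsEquiv (I.cocomplex.X n) hW hW₁) (fun m n z => (Cocyc.app_rs (I.cocomplex.d m n) hW z).symm)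
  obtain ⟨e₂, he₂⟩ := exists_classEquiv J₁ D hV' p (Cohom.localises_pushCx f' R p)
    (fun n => rsEquiv (R.cocomplex.X n) hW' hW₁') (fun m n z => (Cocyc.app_rs (R.cocomplex.d m n) hW' z).symm)
  obtain ⟨β, hβ, hβv⟩ := bijective_baseCmp (g := g) G (C.homology p) hV hV' eV
  let e₁' : FlatTensorCoh.EF d (Cohom.freeFun.obj ⊤) p ≃ₗ[Γ(S, V)] Γ(C.homology p, V) :=
    AddEquiv.toLinearEquiv (show FlatTensorCoh.EF d (Cohom.freeFun.obj ⊤) p ≃+ Γ(C.homology p, V) from e₁)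
      fun a x => classEquiv_smul I hV p e₁ he₁ a x
  let E : Γ(G, V') ⊗[Γ(S, V)] FlatTensorCoh.EF d (Cohom.freeFun.obj ⊤) p ≃ₗ[Γ(S, V)]
      Γ(G, V') ⊗[Γ(S, V)] Γ(C.homology p, V) := TensorProduct.congr (LinearEquiv.refl _ _) e₁'
  have key : ∀ t, Θ.app V' (β (E t)) = e₂ (FlatTensorCoh.cmp d (Cohom.freeFun.obj ⊤) p t) := by
    intro t
    induction t using TensorProduct.induction_on with
    | zero => rw [map_zero E, map_zero β, map_zero, map_zero, map_zero]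
    | add a b ha hb => rw [map_add E, map_add β, map_add, map_add, map_add, ha, hb]
    | tmul m x =>
      obtain ⟨z, rfl⟩ := Cohom.cocClass_surjective I₁ p _
        (show Abelian.Ext.{u} (Cohom.freeFun.obj ⊤) (Coh.toAb (srcMod (f := f) (V := V) F)) p from x)
      let ψ : Cohom.abCx I₁ ⟶ Cohom.abCx J₁ :=
        { f := fun n => psi sq G eV (u.f n) m
          comm' := fun i j _ => (psi_comm sq G eV (I.cocomplex.d i j) (R.cocomplex.d i j) (u.f i) (u.f j)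
            (u.comm i j).symm m).symm }
      have h0 : (QCoh.toAbFun _).map I₁.ι ≫ ψ.f 0 =
          psi sq G eV (𝟙 (tgtMod G F f' g')) m ≫ (QCoh.toAbFun _).map J₁.ι :=
        psi_comm sq G eV I.ι R.ι (𝟙 _) (u.f 0) (by rw [Category.id_comp]; exact hu) m
      show Θ.app V' (β (m ⊗ₜ e₁ (Cohom.cocClass I₁ p ⊤ z))) =
        e₂ ((Cohom.cocClass I₁ p ⊤ z).comp (Abelian.Ext.mk₀ (psi sq G eV (𝟙 (tgtMod G F f' g')) m)) (add_zero p))
      rw [← cocClass_map I₁ J₁ ψ _ h0 p ⊤ z]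
      obtain ⟨hz₀, hw, hval⟩ := bigTheta_top sq G u.f (fun m n => u.comm m n) p eV m z.1 z.2
      refine (congrArg (fun t => Θ.app V' (β (m ⊗ₜ t))) (he₁ z hz₀)).trans ?_
      refine (congrArg (Θ.app V') (hβv m _)).trans ?_
      exact hval.trans (he₂ ⟨_, coc_map I₁ J₁ ψ z⟩ hw).symm
  have hb : Function.Bijective fun t => Θ.app V' (β (E t)) := by
    rw [show (fun t => Θ.app V' (β (E t))) = _ from funext key]
    exact e₂.bijective.comp (hgood p)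
  have hEb : Function.Bijective fun t => β (E t) := hβ.comp E.bijective
  obtain ⟨inv, hinv₁, hinv₂⟩ := Function.bijective_iff_has_inverse.1 hEb
  have e : ⇑(Θ.app V') = (fun t => Θ.app V' (β (E t))) ∘ inv := funext fun y => (congrArg (Θ.app V') (hinv₂ y)).symm
  show Function.Bijective (Θ.app V')
  rw [e]
  exact hb.comp (Function.bijective_iff_has_inverse.2 ⟨fun t => β (E t), hinv₂, hinv₁⟩)

end GrothLib.GenFlatBC9
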