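import Groth.Agent.Lib.Cohom.ResolutionCompare

/-! # Classes of cocycles: functoriality, and sections of homology sheaves -/

set_option autoImplicit false
set_option backward.isDefEq.respectTransparency false
set_option linter.style.haveILetI false
universe u

open CategoryTheory CategoryTheory.Limits Opposite TopologicalSpace AlgebraicGeometry Abelian
open GrothLib.Cohom

noncomputable section

namespace GrothLib.GenFlatBC9

section Map

variable {T : Scheme.{u}} {M N : T.Modules} (I : FlRes M) (J : FlRes N) (θ : abCx I ⟶ abCx J)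
  (φ : Coh.toAb M ⟶ Coh.toAb N)

theorem coc_map {p : ℕ} {W : T.Opens} (z : cocycles I p W) :
    Cocyc.Coc J.cocomplex p (show Γ(J.cocomplex.X p, W) from (θ.f p).hom.app (op W) z.1) := by
  have h := congrArg (fun k => k.hom.app (op W) z.1) (θ.comm p (p + 1))
  have hz : (I.cocomplex.d p (p + 1)).app W z.1 = 0 := z.2
  change (J.cocomplex.d p (p + 1)).app W _ = 0
  refine h.trans ?_
  change (θ.f (p + 1)).hom.app (op W) ((I.cocomplex.d p (p + 1)).app W z.1) = 0
  rw [hz]
  exact map_zero ((θ.f (p + 1)).hom.app (op W)).hom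

/-- Classes of cocycles are natural in the module. -/
theorem cocClass_map (h0 : (QCoh.toAbFun T).map I.ι ≫ θ.f 0 = φ ≫ (QCoh.toAbFun T).map J.ι)
    (p : ℕ) (W : T.Opens) (z : cocycles I p W) :
    cocClass J p W ⟨_, coc_map I J θ z⟩ = (cocClass I p W z).comp (Ext.mk₀ φ) (add_zero p) := by
  have e : liftCoc J p W ⟨_, coc_map I J θ z⟩ = liftCoc I p W z ≫ ClassChain.zMap₂ θ p := by
    apply equalizer.hom_ext
    rw [liftCoc_ι, Category.assoc, kernel.lift_ι, ← Category.assoc, liftCoc_ι]
    apply (sectionsEquiv W (Coh.toAb (J.cocomplex.X p))).injective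
    rw [sectionsEquiv_comp, Equiv.apply_symm_apply]
    erw [Equiv.apply_symm_apply]
    rfl
  have e0 : ClassChain.zMap₂ θ 0 ≫ (z0 J).inv = (z0 I).inv ≫ φ := by
    rw [Iso.comp_inv_eq, Category.assoc, Iso.eq_inv_comp]
    apply equalizer.hom_ext
    rw [Category.assoc, Category.assoc, kernel.lift_ι, ← Category.assoc, z0_hom_ι, z0_hom_ι]
    exact h0
  rw [cocClass_apply, e, ClassChain.mapCls_naturality (abCx_exact I) (abCx_exact J), cocClass_apply,
    Ext.comp_assoc_of_third_deg_zero, Ext.mk₀_comp_mk₀, e0, Ext.comp_assoc_of_third_deg_zero,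
    Ext.mk₀_comp_mk₀]

end Map

section Push

variable {X T : Scheme.{u}} (f : X ⟶ T) [IsAffineHom f] {M : X.Modules} [M.IsQuasicoherent]

theorem exact_of_eq {K K' : CochainComplex T.Modules ℕ} (e : K = K') (n : ℕ)
    (h : (ShortComplex.mk _ _ (K.d_comp_d n (n + 1) (n + 2))).Exact) :
    (ShortComplex.mk _ _ (K'.d_comp_d n (n + 1) (n + 2))).Exact := by
  subst e; exact h

/-- The direct image of a flasque resolution along an affine morphism. -/
def pushRes (I : FlRes M) : FlRes ((Scheme.Modules.pushforward f).obj M) where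
  cocomplex := pushCx f I.cocomplex
  ι := (Scheme.Modules.pushforward f).map I.ι
  ι_d := ((Scheme.Modules.pushforward f).map_comp _ _).symm.trans
    ((congrArg _ I.ι_d).trans ((Scheme.Modules.pushforward f).map_zero _ _))
  isKernel :=
    have : PreservesFiniteLimits (Scheme.Modules.pushforward f) := by
      have : PreservesLimitsOfSize.{0, 0} (Scheme.Modules.pushforward f) :=
        (Scheme.Modules.pullbackPushforwardAdjunction f).rightAdjoint_preservesLimits
      exact PreservesLimitsOfSize.preservesFiniteLimits.{0, 0} _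
    KernelFork.mapIsLimit _ I.isKernel (Scheme.Modules.pushforward f)
  exact_succ n :=
    exact_of_eq (nonempty_flRes_push f I).choose_spec n ((nonempty_flRes_push f I).choose.exact_succ n)
  flasque n {_ _} h := I.flasque n (f.preimage_mono h)

end Push

/-- Classes on a whole scheme as sections of a homology sheaf. -/
theorem exists_classEquiv {T S : Scheme.{u}} {N : T.Modules} (I : FlRes N) (K : CochainComplex S.Modules ℕ)
    {U : S.Opens} (hU : IsAffineOpen U) (p : ℕ) (hP : Cocyc.Localises K p)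
    (σ : ∀ n, Γ(I.cocomplex.X n, (⊤ : T.Opens)) ≃+ Γ(K.X n, U))
    (hσ : ∀ m n z, σ n ((I.cocomplex.d m n).app ⊤ z) = (K.d m n).app U (σ m z)) :
    ∃ e : Ext.{u} (freeFun.obj (⊤ : T.Opens)) (Coh.toAb N) p ≃+ Γ(K.homology p, U),
      ∀ (z : cocycles I p (⊤ : T.Opens)) (h : Cocyc.Coc K p (σ p z.1)),
        e (cocClass I p ⊤ z) = Cocyc.hcls K p (σ p z.1) h := by
  have hc : ∀ z : cocycles I p (⊤ : T.Opens), Cocyc.Coc K p (σ p z.1) := fun z =>
    (hσ p (p + 1) z.1).symm.trans ((congrArg (σ (p + 1)) (show _ = 0 from z.2)).trans (map_zero _))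
  have hb : ∀ z : Γ(I.cocomplex.X p, (⊤ : T.Opens)), Cocyc.Bdy I.cocomplex p z ↔ Cocyc.Bdy K p (σ p z) := by
    intro z
    constructor
    · rintro ⟨w, rfl⟩
      exact ⟨σ _ w, (hσ _ _ w).symm⟩
    · rintro ⟨w, hw⟩
      obtain ⟨w, rfl⟩ := (σ (p - 1)).surjective w
      exact ⟨w, (σ p).injective ((hσ _ _ w).trans hw)⟩
  let cls : cocycles I p (⊤ : T.Opens) →+ Γ(K.homology p, U) :=
    AddMonoidHom.mk' (fun z => Cocyc.hcls K p (σ p z.1) (hc z)) fun a b => by
      refine Eq.trans ?_ (Cocyc.hcls_add K p _ _ (hc a) (hc b))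
      simp only [AddSubgroup.coe_add, map_add]
  have hk : ∀ z, cls z = 0 ↔ cocClass I p ⊤ z = 0 := fun z => by
    rw [cocClass_eq_zero_iff, hb]
    exact ⟨Cocyc.bdy_of_hcls_eq_zero hP hU _ (hc z), Cocyc.hcls_eq_zero_of_bdy K p _ (hc z)⟩
  have hcong : ∀ z z', cocClass I p ⊤ z = cocClass I p ⊤ z' → cls z = cls z' := fun z z' h =>
    sub_eq_zero.1 ((map_sub cls z z').symm.trans ((hk _).2 (by rw [map_sub, h, sub_self])))
  let s := Function.surjInv (cocClass_surjective I p (⊤ : T.Opens))
  let e : Ext.{u} (freeFun.obj (⊤ : T.Opens)) (Coh.toAb N) p →+ Γ(K.homology p, U) :=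
    AddMonoidHom.mk' (fun x => cls (s x)) fun a b => by
      rw [← map_add cls]
      exact hcong _ _ (by simp only [map_add, s, Function.surjInv_eq (cocClass_surjective I p (⊤ : T.Opens))])
  have he : ∀ z, e (cocClass I p ⊤ z) = cls z := fun z => hcong _ _ (Function.surjInv_eq _ _)
  refine ⟨AddEquiv.ofBijective e ⟨(injective_iff_map_eq_zero e).2 fun x hx => ?_, fun t => ?_⟩, fun z h => he z⟩
  · obtain ⟨z, rfl⟩ := cocClass_surjective I p _ x
    exact (hk z).1 ((he z).symm.trans hx)
  · obtain ⟨w, hw, rfl⟩ := Cocyc.exists_hcls_eq hP hU t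
    obtain ⟨z, rfl⟩ := (σ p).surjective w
    have hz : Cocyc.Coc I.cocomplex p z := (σ (p + 1)).injective ((hσ p (p + 1) z).trans (hw.trans (map_zero _).symm))
    exact ⟨cocClass I p ⊤ ⟨z, hz⟩, he ⟨z, hz⟩⟩

end GrothLib.GenFlatBC9
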