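import Groth.Agent.Lib.GenFlatBC9.Comparison
import Groth.Agent.Lib.GenFlatBC9.Classes
import Groth.Agent.Lib.FlatTensorCoh.Main

/-! # The comparison of classes over an affine open of the base -/

set_option autoImplicit false
set_option backward.isDefEq.respectTransparency false
set_option linter.style.haveILetI false
set_option maxHeartbeats 2000000
universe u

open CategoryTheory CategoryTheory.Limits AlgebraicGeometry Opposite TopologicalSpace TensorProduct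
open GrothLib.OX (tmulSec)
open GrothLib.BCCoh (pullRes)

noncomputable section

namespace GrothLib.GenFlatBC9

variable {X S X' S' : Scheme.{u}} {f : X ⟶ S} {g : S' ⟶ S} {g' : X' ⟶ X} {f' : X' ⟶ S'}
  (sq : IsPullback g' f' f g) (G : S'.Modules) {V : S.Opens} {V' : S'.Opens} (eV : V' ≤ g ⁻¹ᵁ V)

/-- The projection between the preimages. -/
abbrev qMap : ((f' ⁻¹ᵁ V' : X'.Opens) : Scheme.{u}) ⟶ ((f ⁻¹ᵁ V : X.Opens) : Scheme.{u}) :=
  g'.resLE (f ⁻¹ᵁ V) (f' ⁻¹ᵁ V') (AffBC.preimage_le sq eV)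

theorem image_qMap (U : ((f ⁻¹ᵁ V : X.Opens) : Scheme.{u}).Opens) :
    (f' ⁻¹ᵁ V').ι ''ᵁ (qMap sq eV ⁻¹ᵁ U) = g' ⁻¹ᵁ ((f ⁻¹ᵁ V).ι ''ᵁ U) ⊓ f' ⁻¹ᵁ V' := by
  have h : qMap sq eV ≫ (f ⁻¹ᵁ V).ι = (f' ⁻¹ᵁ V').ι ≫ g' := Scheme.Hom.resLE_comp_ι _ _
  conv_lhs => rw [← (f ⁻¹ᵁ V).ι.preimage_image_eq U]
  rw [← Scheme.Hom.comp_preimage, h, Scheme.Hom.comp_preimage, Scheme.Hom.image_preimage_eq_opensRange_inf,
    Scheme.Opens.opensRange_ι, inf_comm]

theorem qImage_le (U : ((f ⁻¹ᵁ V : X.Opens) : Scheme.{u}).Opens) :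
    (f' ⁻¹ᵁ V').ι ''ᵁ (qMap sq eV ⁻¹ᵁ U) ≤ g' ⁻¹ᵁ ((f ⁻¹ᵁ V).ι ''ᵁ U) :=
  (image_qMap sq eV U).le.trans inf_le_left

theorem qImage_le' (U : ((f ⁻¹ᵁ V : X.Opens) : Scheme.{u}).Opens) :
    (f' ⁻¹ᵁ V').ι ''ᵁ (qMap sq eV ⁻¹ᵁ U) ≤ f' ⁻¹ᵁ V' :=
  (image_qMap sq eV U).le.trans inf_le_right

include sq eV in
theorem isAffineHom_qMap (hV : IsAffineOpen V) (hV' : IsAffineOpen V') : IsAffineHom (qMap sq eV) := by
  haveI : IsAffine (V : Scheme.{u}) := hV
  haveI : IsAffine (V' : Scheme.{u}) := hV'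
  haveI : IsAffineHom (g.resLE V V' eV) := isAffineHom_of_isAffine _
  exact MorphismProperty.of_isPullback (P := @IsAffineHom)
    (Scheme.Hom.isPullback_resLE sq eV le_rfl (by rw [inf_eq_right.2 (AffBC.preimage_le sq eV)])).flip ‹_›

/-- `N|W`. -/
abbrev srcMod (N : X.Modules) : ((f ⁻¹ᵁ V : X.Opens) : Scheme.{u}).Modules := N.restrict (f ⁻¹ᵁ V).ι

/-- `q_* (N|W')`. -/
abbrev pushTgt (N' : X'.Modules) : ((f ⁻¹ᵁ V : X.Opens) : Scheme.{u}).Modules :=
  (Scheme.Modules.pushforward (qMap sq eV)).obj (N'.restrict (f' ⁻¹ᵁ V').ι)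

theorem secPair_res (N : X.Modules) {U U₂ : X.Opens} (hU : U₂ ≤ U) {U' U₂' : X'.Opens} (hU' : U₂' ≤ U')
    (h₁ : U' ≤ g' ⁻¹ᵁ U) (h₂ : U' ≤ f' ⁻¹ᵁ V') (h₃ : U₂' ≤ g' ⁻¹ᵁ U₂) (h₄ : U₂' ≤ f' ⁻¹ᵁ V')
    (m : Γ(G, V')) (z : Γ(N, U)) :
    (tgtMod G N f' g').presheaf.map (homOfLE hU').op (secPair G N h₁ h₂ m z) =
      secPair G N h₃ h₄ m (N.presheaf.map (homOfLE hU).op z) := by
  rw [secPair_apply, secPair_apply, res_tmulSec, BCCoh.pullRes_res f' G (le_refl V') h₂ h₄ hU',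
    BCCoh.pullRes_res g' N hU h₁ h₃ hU', Cohom.map_self_apply]

theorem secPair_natural {N N₂ : X.Modules} (b : N ⟶ N₂) {U : X.Opens} {U' : X'.Opens}
    (h₁ : U' ≤ g' ⁻¹ᵁ U) (h₂ : U' ≤ f' ⁻¹ᵁ V') (m : Γ(G, V')) (z : Γ(N, U)) :
    ((TL g' ((Scheme.Modules.pullback f').obj G)).map b).app U' (secPair G N h₁ h₂ m z) =
      secPair G N₂ h₁ h₂ m (b.app U z) := by
  refine (ProjFormula.map_right_tmulSec _ ((Scheme.Modules.pullback g').map b) U' _ _).trans ?_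
  refine congrArg (tmulSec _ _ U' _) ?_
  refine (QCoh.map_app ((Scheme.Modules.pullback g').map b) (homOfLE h₁) _).symm.trans ?_
  exact congrArg (((Scheme.Modules.pullback g').obj N₂).presheaf.map (homOfLE h₁).op)
    (OX.pullSec_natural g' b U z).symm

/-- `z ↦ a (m ⊗ g'^* z)`. -/
def psi {N : X.Modules} {N' : X'.Modules} (a : (TL g' ((Scheme.Modules.pullback f').obj G)).obj N ⟶ N')
    (m : Γ(G, V')) : Coh.toAb (srcMod (f := f) (V := V) N) ⟶ Coh.toAb (pushTgt sq eV N') :=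
  ⟨{ app := fun U => AddCommGrpCat.ofHom (AddMonoidHom.mk'
        (fun z : Γ(N, (f ⁻¹ᵁ V).ι ''ᵁ U.unop) =>
          (show Γ(N', (f' ⁻¹ᵁ V').ι ''ᵁ (qMap sq eV ⁻¹ᵁ U.unop)) from
            a.app _ (secPair G N (qImage_le sq eV U.unop) (qImage_le' sq eV U.unop) m z)))
        fun z z' => by rw [map_add, map_add])
     naturality := fun U U₂ i => by
      ext z
      refine Eq.trans ?_ (QCoh.map_app a (homOfLE ((f' ⁻¹ᵁ V').ι.image_mono
        ((qMap sq eV).preimage_mono i.unop.le))) _).symm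
      exact congrArg (a.app _) (secPair_res G N ((f ⁻¹ᵁ V).ι.image_mono i.unop.le) _ (qImage_le sq eV U.unop)
        (qImage_le' sq eV U.unop) (qImage_le sq eV U₂.unop) (qImage_le' sq eV U₂.unop) m _).symm }⟩

theorem psi_app {N : X.Modules} {N' : X'.Modules} (a : (TL g' ((Scheme.Modules.pullback f').obj G)).obj N ⟶ N')
    (m : Γ(G, V')) (U : ((f ⁻¹ᵁ V : X.Opens) : Scheme.{u}).Opens) (z : Γ(N, (f ⁻¹ᵁ V).ι ''ᵁ U)) :
    (psi sq G eV a m).hom.app (op U) z =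
      a.app _ (secPair G N (qImage_le sq eV U) (qImage_le' sq eV U) m z) := rfl

theorem psi_comm {N N₂ : X.Modules} {N' N₂' : X'.Modules} (b : N ⟶ N₂) (b' : N' ⟶ N₂')
    (a : (TL g' ((Scheme.Modules.pullback f').obj G)).obj N ⟶ N')
    (a₂ : (TL g' ((Scheme.Modules.pullback f').obj G)).obj N₂ ⟶ N₂')
    (h : (TL g' ((Scheme.Modules.pullback f').obj G)).map b ≫ a₂ = a ≫ b') (m : Γ(G, V')) :
    (QCoh.toAbFun _).map ((Scheme.Modules.restrictFunctor (f ⁻¹ᵁ V).ι).map b) ≫ psi sq G eV a₂ m =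
      psi sq G eV a m ≫ (QCoh.toAbFun _).map ((Scheme.Modules.pushforward (qMap sq eV)).map
        ((Scheme.Modules.restrictFunctor (f' ⁻¹ᵁ V').ι).map b')) := by
  refine Sheaf.hom_ext ?_
  ext U z
  show a₂.app _ (secPair G N₂ _ _ m (b.app _ z)) = b'.app _ (a.app _ (secPair G N _ _ m z))
  rw [← secPair_natural, ← ConcreteCategory.comp_apply, ← Scheme.Modules.Hom.comp_app, h]
  rfl

theorem psi_add {N : X.Modules} {N' : X'.Modules} (a : (TL g' ((Scheme.Modules.pullback f').obj G)).obj N ⟶ N')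
    (m m' : Γ(G, V')) : psi sq G eV a (m + m') = psi sq G eV a m + psi sq G eV a m' := by
  refine Sheaf.hom_ext ?_
  ext U z
  show a.app _ (secPair G N _ _ (m + m') z) = a.app _ (secPair G N _ _ m z) + a.app _ (secPair G N _ _ m' z)
  rw [map_add, AddMonoidHom.add_apply, map_add]

variable (f V) in
/-- The functions on the base on the preimage. -/
def baseTop : Γ(S, V) →+* Coh.Γtop ((f ⁻¹ᵁ V : X.Opens) : Scheme.{u}) :=
  (f.appLE V ((f ⁻¹ᵁ V).ι ''ᵁ ⊤) ((f ⁻¹ᵁ V).ι_image_top.le)).hom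

variable (f V) in
/-- The action of the base. -/
def actW (N : X.Modules) : Γ(S, V) →+* End (Coh.toAb (srcMod (f := f) (V := V) N)) where
  toFun a := Coh.smulAb _ (baseTop f V a)
  map_one' := by rw [map_one, Coh.smulAb_one]; rfl
  map_mul' a b := by rw [map_mul, Coh.smulAb_mul]; rfl
  map_zero' := by rw [map_zero, Coh.smulAb_zero]
  map_add' a b := by rw [map_add, Coh.smulAb_add]

theorem actW_app (N : X.Modules) (a : Γ(S, V)) (U : ((f ⁻¹ᵁ V : X.Opens) : Scheme.{u}).Opens)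
    (z : Γ(N, (f ⁻¹ᵁ V).ι ''ᵁ U)) :
    (actW f V N a).hom.app (op U) z =
      (f.appLE V ((f ⁻¹ᵁ V).ι ''ᵁ U) ((f ⁻¹ᵁ V).ι_image_le U) a • z : Γ(N, (f ⁻¹ᵁ V).ι ''ᵁ U)) := by
  refine (Coh.smulAb_app _ _ (op U) _).trans ?_
  show ((f ⁻¹ᵁ V).ι.appIso U).inv (((f ⁻¹ᵁ V : X.Opens) : Scheme.{u}).presheaf.map _ (baseTop f V a)) • z = _
  rw [Scheme.Opens.ι_appIso]
  refine congrArg (fun c : Γ(X, (f ⁻¹ᵁ V).ι ''ᵁ U) => (c • z : Γ(N, (f ⁻¹ᵁ V).ι ''ᵁ U))) ?_
  show X.presheaf.map _ (f.appLE V _ _ a) = _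
  exact congr($(Scheme.Hom.appLE_map f _ _) a)

theorem psi_bal {N : X.Modules} {N' : X'.Modules} (a : (TL g' ((Scheme.Modules.pullback f').obj G)).obj N ⟶ N')
    (c : Γ(S, V)) (m : Γ(G, V')) :
    psi sq G eV a (g.appLE V V' eV c • m) = actW f V N c ≫ psi sq G eV a m := by
  refine Sheaf.hom_ext ?_
  ext U z
  show a.app _ (secPair G N _ _ (g.appLE V V' eV c • m) z) = a.app _ (secPair G N _ _ m ((actW f V N c).hom.app U z))
  exact congrArg (a.app _) ((secPair_bal G N sq.w ((f ⁻¹ᵁ V).ι_image_le U.unop) eV (qImage_le sq eV U.unop)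
    (qImage_le' sq eV U.unop) c m z).trans
      (congrArg (secPair G N (qImage_le sq eV U.unop) (qImage_le' sq eV U.unop) m) (actW_app N c U.unop z).symm))

variable (F : X.Modules)

/-- The comparison datum. -/
def datW :
    letI := modOver g G eV
    FlatTensorCoh.Dat Γ(S, V) Γ(G, V') (Coh.toAb (srcMod (f := f) (V := V) F))
      (Coh.toAb (pushTgt sq eV (tgtMod G F f' g'))) :=
  letI := modOver g G eV
  { act := actW f V F
    φ := AddMonoidHom.mk' (psi sq G eV (𝟙 _)) (psi_add sq G eV (𝟙 _))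
    bal := fun c m => psi_bal sq G eV (𝟙 _) c m }

theorem good_affine_datW [F.IsQuasicoherent] [G.IsQuasicoherent] (hV : IsAffineOpen V) (hV' : IsAffineOpen V')
    {U : ((f ⁻¹ᵁ V : X.Opens) : Scheme.{u}).Opens} (hU : IsAffineOpen U) :
    letI := modOver g G eV
    FlatTensorCoh.Good (datW sq G eV F) (Cohom.freeFun.obj U) := by
  letI := modOver g G eV
  let UX := (f ⁻¹ᵁ V).ι ''ᵁ U
  have hUX : IsAffineOpen UX := hU.image_of_isOpenImmersion _
  have eU : UX ≤ f ⁻¹ᵁ V := (f ⁻¹ᵁ V).ι_image_le U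
  haveI := isAffineHom_qMap sq eV hV hV'
  haveI : ((Scheme.Modules.pullback f').obj G).IsQuasicoherent := FittSheaf.isQuasicoherent_pullback f' G
  haveI : ((Scheme.Modules.pullback g').obj F).IsQuasicoherent := FittSheaf.isQuasicoherent_pullback g' F
  haveI : (tgtMod G F f' g').IsQuasicoherent := isQuasicoherent_tens _ _
  haveI : (pushTgt sq eV (tgtMod G F f' g')).IsQuasicoherent := QCoh.isQuasicoherent_pushforward _ _
  rintro (_ | n)
  · letI := modOver f F eU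
    let d := datW sq G eV F
    let e : FlatTensorCoh.EF d (Cohom.freeFun.obj U) 0 ≃ₗ[Γ(S, V)] Γ(F, UX) :=
      AddEquiv.toLinearEquiv (show FlatTensorCoh.EF d (Cohom.freeFun.obj U) 0 ≃+ Γ(F, UX) from
          Cohom.H0Equiv (Coh.toAb (srcMod (f := f) (V := V) F)) U) fun a x => by
        obtain ⟨φ, rfl⟩ := (Abelian.Ext.mk₀_bijective _ _).2
          (show Abelian.Ext.{u} (Cohom.freeFun.obj U) (Coh.toAb (srcMod (f := f) (V := V) F)) 0 from x)
        show Cohom.H0Equiv _ U ((Abelian.Ext.mk₀ φ).comp (Abelian.Ext.mk₀ (actW f V F a)) (add_zero 0)) =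
          f.appLE V UX eU a • (show Γ(F, UX) from Cohom.H0Equiv (Coh.toAb (srcMod (f := f) (V := V) F)) U (Abelian.Ext.mk₀ φ))
        rw [Abelian.Ext.mk₀_comp_mk₀, Cohom.H0Equiv_mk₀, Cohom.H0Equiv_mk₀, Cohom.sectionsEquiv_comp]
        exact actW_app F a U _
    let E : Γ(G, V') ⊗[Γ(S, V)] FlatTensorCoh.EF d (Cohom.freeFun.obj U) 0 ≃ₗ[Γ(S, V)]
        Γ(G, V') ⊗[Γ(S, V)] Γ(F, UX) := TensorProduct.congr (LinearEquiv.refl _ _) e
    let C := secCmp G F sq.w eU eV (qImage_le sq eV U) (qImage_le' sq eV U)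
    have hC : Function.Bijective C := by
      have key : ∀ (U' : X'.Opens) (hU' : U' = FlatBC.upU g' f' V' UX) (h₁ : U' ≤ g' ⁻¹ᵁ UX)
          (h₂ : U' ≤ f' ⁻¹ᵁ V'), Function.Bijective (secCmp G F sq.w eU eV h₁ h₂) := by
        intro U' hU' h₁ h₂
        subst hU'
        exact bijective_secCmp G F sq hV hV' hUX eU eV
      exact key _ (image_qMap sq eV U) _ _
    have key : ∀ z, FlatTensorCoh.cmp d (Cohom.freeFun.obj U) 0 z =
        (Cohom.H0Equiv (Coh.toAb (pushTgt sq eV (tgtMod G F f' g'))) U).symm (C (E z)) := by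
      intro z
      induction z using TensorProduct.induction_on with
      | zero =>
        rw [map_zero E, map_zero C, map_zero]
        exact (map_zero _).symm
      | add z w hz hw =>
        rw [map_add E, map_add C, map_add, hz, hw]
        exact (map_add _ _ _).symm
      | tmul m x =>
        rw [AddEquiv.eq_symm_apply]
        obtain ⟨φ, rfl⟩ := (Abelian.Ext.mk₀_bijective _ _).2
          (show Abelian.Ext.{u} (Cohom.freeFun.obj U) (Coh.toAb (srcMod (f := f) (V := V) F)) 0 from x)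
        show Cohom.H0Equiv _ U ((Abelian.Ext.mk₀ φ).comp (Abelian.Ext.mk₀ (psi sq G eV (𝟙 _) m)) (add_zero 0)) = _
        rw [Abelian.Ext.mk₀_comp_mk₀, Cohom.H0Equiv_mk₀, Cohom.sectionsEquiv_comp]
        show _ = secPair G F _ _ m (Cohom.H0Equiv (Coh.toAb (srcMod (f := f) (V := V) F)) U (Abelian.Ext.mk₀ φ))
        rw [Cohom.H0Equiv_mk₀]
        rfl
    rw [show ⇑(FlatTensorCoh.cmp d (Cohom.freeFun.obj U) 0) = _ from funext key]
    exact (AddEquiv.bijective _).comp (hC.comp E.bijective)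
  · haveI : Subsingleton (FlatTensorCoh.EF (datW sq G eV F) (Cohom.freeFun.obj U) (n + 1)) :=
      Cohom.vanishFrom_affine (srcMod (f := f) (V := V) F) hU (n + 1) (by omega)
    haveI : Subsingleton (Abelian.Ext.{u} (Cohom.freeFun.obj U) (Coh.toAb (pushTgt sq eV (tgtMod G F f' g'))) (n + 1)) :=
      Cohom.vanishFrom_affine _ hU (n + 1) (by omega)
    haveI : Subsingleton (Γ(G, V') ⊗[Γ(S, V)] FlatTensorCoh.EF (datW sq G eV F) (Cohom.freeFun.obj U) (n + 1)) :=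
      subsingleton_of_forall_eq 0 fun z => by
        induction z using TensorProduct.induction_on with
        | zero => rfl
        | tmul m x => rw [Subsingleton.elim x 0, tmul_zero]
        | add z w hz hw => rw [hz, hw, add_zero]
    exact ⟨fun _ _ _ => Subsingleton.elim _ _, fun y => ⟨0, Subsingleton.elim _ _⟩⟩

end GrothLib.GenFlatBC9
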